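import Groth.Agent.DimIneq.ClosedMap
import Groth.Agent.GenFinite.Basic
import Groth.Agent.CurveDVR.Stalk
import Groth.Agent.FlatOpen.Scheme
import Groth.Agent.ProjProper.Basic
import Groth.Prelude.Def_RelProj
import Mathlib.AlgebraicGeometry.ZariskisMainTheorem
import Mathlib.RingTheory.Flat.TorsionFree
import Mathlib.FieldTheory.FinTrdeg

/-!
Finite and flat loci of dominant morphisms between integral schemes of the same dimension.
-/

set_option autoImplicit false
set_option linter.style.haveILetI false
universe u

open CategoryTheory CategoryTheory.Limits AlgebraicGeometry TopologicalSpace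

namespace Groth.Agent.ZCorrLib

set_option backward.isDefEq.respectTransparency.types false

theorem isProper_of_isHProjective {X S : Scheme.{u}} (f : X ⟶ S) (hf : RelProj.IsHProjective f) :
    IsProper f := by
  obtain ⟨n, i, hi, rfl⟩ := hf
  haveI := ProjProper.Basic.isProper_toBase n S
  infer_instance

set_option linter.unusedSectionVars false

variable {X Y : Scheme.{u}} [IsIntegral X] [IsIntegral Y] (f : X ⟶ Y)

theorem isField_stalk_base_genericPoint [IsDominant f] :
    IsField (Y.presheaf.stalk (f.base (genericPoint ↥X))) := by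
  rw [DimIneq.base_genericPoint f]
  exact Field.toIsField Y.functionField

theorem stalkMap_injective [IsDominant f] (x : X) : Function.Injective (f.stalkMap x) := by
  obtain ⟨U, hU, hxU, -⟩ := exists_isAffineOpen_mem_and_subset (x := f x) (U := (⊤ : Y.Opens)) trivial
  refine hU.stalkMap_injective f x hxU fun g hg => ?_
  rw [Scheme.Hom.germ_stalkMap_apply] at hg
  have h0 : f.app U g = 0 := germ_injective_of_isIntegral (X := X) x hxU (by rw [hg, map_zero])
  have hηX : genericPoint ↥X ∈ f ⁻¹ᵁ U :=
    ((genericPoint_spec X).mem_open_set_iff (f ⁻¹ᵁ U).2).2 ⟨x, trivial, hxU⟩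
  have h1 : f.stalkMap (genericPoint ↥X) (Y.presheaf.germ U (f (genericPoint ↥X)) hηX g) = 0 := by
    rw [Scheme.Hom.germ_stalkMap_apply, h0, map_zero]
  letI := (isField_stalk_base_genericPoint f).toField
  have h2 := (f.stalkMap (genericPoint ↥X)).hom.injective (h1.trans (map_zero _).symm)
  rw [germ_injective_of_isIntegral (X := Y) (f (genericPoint ↥X)) hηX
    (h2.trans (map_zero (Y.presheaf.germ U _ hηX).hom).symm), map_zero]

theorem isField_stalk_genericPoint : IsField (Y.presheaf.stalk (genericPoint ↥Y)) :=
  Field.toIsField Y.functionField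

omit [IsIntegral X] in
theorem flat_stalkMap_of_generic {x : X} (hx : f.base x = genericPoint ↥Y) :
    (f.stalkMap x).hom.Flat := by
  have hF : IsField (Y.presheaf.stalk (f.base x)) := by rw [hx]; exact isField_stalk_genericPoint
  letI := hF.toField
  letI := (f.stalkMap x).hom.toAlgebra
  show Module.Flat _ _
  infer_instance

/-- The fibre over the generic point of a dominant closed map of integral schemes of the same finite
dimension is a single point. -/
theorem finite_generic_fibre [IsLocallyNoetherian Y] [LocallyOfFiniteType f] [IsDominant f]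
    (hf : IsClosedMap f.base) (n : ℕ) (hY : topologicalKrullDim ↥Y = n)
    (hX : topologicalKrullDim ↥X = n) : (f.base ⁻¹' {genericPoint ↥Y}).Finite := by
  obtain ⟨E, hE⟩ : ∃ E : ℕ, (letI := (f.residueFieldMap (genericPoint ↥X)).hom.toAlgebra
      Algebra.trdeg (Y.residueField (f.base (genericPoint ↥X))) (X.residueField (genericPoint ↥X))) =
      (E : Cardinal) := by
    obtain ⟨V, hV, hxV, -⟩ := exists_isAffineOpen_mem_and_subset
      (x := f (genericPoint ↥X)) (U := (⊤ : Y.Opens)) trivial
    obtain ⟨U, hU, hxU, hUV⟩ := exists_isAffineOpen_mem_and_subset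
      (x := genericPoint ↥X) (U := f ⁻¹ᵁ V) hxV
    letI := (f.appLE V U hUV).hom.toAlgebra
    haveI : Algebra.FiniteType Γ(Y, V) Γ(X, U) := f.finiteType_appLE hV hU hUV
    haveI := CycLib.liesOver_primeIdealOf f hV hU hUV hxU
    rw [← CycLib.trdeg_residueField_eq f hV hU hUV hxU]
    haveI : Algebra.FiniteType (Γ(Y, V) ⧸ (hV.primeIdealOf ⟨f (genericPoint ↥X), hUV hxU⟩).asIdeal)
        (Γ(X, U) ⧸ (hU.primeIdealOf ⟨genericPoint ↥X, hxU⟩).asIdeal) :=
      Algebra.FiniteType.of_restrictScalars_finiteType Γ(Y, V) _ _
    exact Cardinal.lt_aleph0.1 trdeg_lt_aleph0_of_finiteType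
  have hle := DimIneq.add_le_topologicalKrullDim f E hE hf
  rw [hY, hX] at hle
  have hE0 : E = 0 := by
    have : n + E ≤ n := by exact_mod_cast hle
    omega
  subst hE0
  refine (Set.finite_singleton (genericPoint ↥X)).subset fun x hx => ?_
  obtain ⟨m, -, hdim⟩ := DimIneq.exists_trdeg_stalk_le f x 0 fun ξ hξ _ => by
    obtain rfl := DimIneq.closure_singleton_eq_genericPoint hξ
    rw [hE]
  rw [show f.base x = genericPoint ↥Y from hx] at hdim
  have h0 : ringKrullDim (Y.presheaf.stalk (genericPoint ↥Y)) = 0 :=
    ringKrullDim_eq_zero_of_isField isField_stalk_genericPoint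
  rw [h0, Nat.cast_zero, add_zero] at hdim
  have hxz : ringKrullDim (X.presheaf.stalk x) ≤ 0 :=
    (le_add_of_nonneg_right (Nat.cast_nonneg m)).trans hdim
  rw [ringKrullDim_stalk_eq_coheight] at hxz
  have hmax : IsMax x := Order.coheight_eq_zero.1 (le_antisymm (by exact_mod_cast hxz) zero_le)
  have h1 : x ≤ genericPoint ↥X := genericPoint_specializes x
  exact Inseparable.eq ((hmax h1 : x ⤳ genericPoint ↥X).antisymm (genericPoint_specializes x))

/-- The locus of finite fibres of a proper morphism, as an open set. -/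
theorem exists_finiteLocus [IsProper f] :
    ∃ U : Y.Opens, (U : Set Y) = {y : Y | (f.base ⁻¹' {y}).Finite} ∧ IsFinite (f ∣_ U) := by
  let U : Y.Opens := ⟨(f.base '' (f.quasiFiniteLocus : Set X)ᶜ)ᶜ,
    (f.isClosedMap _ f.quasiFiniteLocus.2.isClosed_compl).isOpen_compl⟩
  have hU : (U : Set Y) = {y : Y | (f.base ⁻¹' {y}).Finite} := by
    ext y
    constructor
    · intro hy
      have hq : ∀ x, f.base x = y → f.QuasiFiniteAt x := fun x hx => by
        by_contra h
        exact hy ⟨x, h, hx⟩
      haveI : DiscreteTopology (f.fiber y) := by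
        refine discreteTopology_iff_isOpen_singleton.2 fun z => ?_
        obtain ⟨w, rfl⟩ := (f.fiberHomeo y).symm.surjective z
        obtain ⟨x, hx⟩ := w
        obtain rfl : f.base x = y := hx
        exact Scheme.Hom.quasiFiniteAt_iff_isOpen_singleton_asFiber.1 (hq x rfl)
      haveI : Finite (f.fiber y) := finite_of_compact_of_discrete
      exact Set.finite_coe_iff.1 ((f.fiberHomeo y).finite_iff.1 inferInstance)
    · rintro hy ⟨x, hx, rfl⟩
      exact hx (GenFinite.quasiFiniteAt_of_finite_fibre f hy rfl)
  refine ⟨U, hU, ?_⟩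
  haveI : LocallyQuasiFinite (f ∣_ U) := LocallyQuasiFinite.of_finite_preimage_singleton _ fun y => by
    have hy : (f.base ⁻¹' {U.ι y}).Finite := by
      have : (y.1 : Y) ∈ (U : Set Y) := y.2
      rw [hU] at this
      exact this
    refine Set.Finite.of_finite_image (f := (f ⁻¹ᵁ U).ι) (hy.subset ?_)
      (f ⁻¹ᵁ U).ι.isOpenEmbedding.injective.injOn
    rintro _ ⟨x, hx, rfl⟩
    show f ((f ⁻¹ᵁ U).ι x) = U.ι y
    rw [← Scheme.Hom.comp_apply, ← morphismRestrict_ι, Scheme.Hom.comp_apply]
    exact congrArg _ hx
  exact IsFinite.of_isProper_of_locallyQuasiFinite _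

/-- A dominant proper morphism from an integral curve to a smooth curve is finite and flat. -/
theorem isFinite_and_flat_curve {k : Type u} [Field k] (g : Y ⟶ Spec (CommRingCat.of k)) [Smooth g]
    (hY : topologicalKrullDim ↥Y = 1) [IsProper f] [IsDominant f] (hX : topologicalKrullDim ↥X = 1)
    [CompactSpace X] :
    IsFinite f ∧ Flat f := by
  letI : Y.Over (Spec (CommRingCat.of k)) := ⟨g⟩
  haveI : LocallyOfFiniteType (Y ↘ Spec (CommRingCat.of k)) := inferInstanceAs (LocallyOfFiniteType g)
  letI : X.Over (Spec (CommRingCat.of k)) := ⟨f ≫ g⟩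
  haveI : LocallyOfFiniteType (X ↘ Spec (CommRingCat.of k)) :=
    inferInstanceAs (LocallyOfFiniteType (f ≫ g))
  haveI : IsLocallyNoetherian Y := LocallyOfFiniteType.isLocallyNoetherian g
  constructor
  · haveI : LocallyQuasiFinite f := LocallyQuasiFinite.of_finite_preimage_singleton _ fun y => by
      by_cases hy : y = genericPoint ↥Y
      · subst hy
        exact finite_generic_fibre f f.isClosedMap 1 (by exact_mod_cast hY) (by exact_mod_cast hX)
      · refine VarDim.finite_of_isClosed k hX
          ((VarDim.isClosed_singleton_of_ne_genericPoint k hY hy).preimage f.continuous) fun h => hy ?_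
        exact (show f.base (genericPoint ↥X) = y from h).symm.trans (DimIneq.base_genericPoint f)
    exact IsFinite.of_isProper_of_locallyQuasiFinite f
  · refine Flat.of_stalkMap f fun x => ?_
    by_cases hy : f.base x = genericPoint ↥Y
    · exact flat_stalkMap_of_generic f hy
    · haveI := CurveDVR.isRegularLocalRing_stalk g (f.base x)
      haveI := CurveDVR.isDiscreteValuationRing_of_regular (Y.presheaf.stalk (f.base x)) (by
        rw [ringKrullDim_stalk_eq_coheight, VarDim.coheight_eq_one_of_ne_genericPoint k hY hy]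
        rfl)
      letI := (f.stalkMap x).hom.toAlgebra
      show Module.Flat (Y.presheaf.stalk (f.base x)) (X.presheaf.stalk x)
      rw [Module.Flat.flat_iff_torsion_eq_bot_of_isBezout, ← Submodule.isTorsionFree_iff_torsion_eq_bot]
      haveI : FaithfulSMul (Y.presheaf.stalk (f.base x)) (X.presheaf.stalk x) :=
        (faithfulSMul_iff_algebraMap_injective _ _).2 (stalkMap_injective f x)
      infer_instance

end Groth.Agent.ZCorrLib
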